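import Groth.Prelude.Def_Curves
import Groth.Agent.SubtrLib.AIC
import Mathlib

set_option autoImplicit false
set_option backward.isDefEq.respectTransparency false
set_option backward.isDefEq.respectTransparency.types false

/-!
Schemes local for Zariski and finite coverings are spectra of absolutely integrally closed local domains.
-/

universe u

open CategoryTheory CategoryTheory.Limits AlgebraicGeometry

namespace Groth.Agent.AicLocal

/-- A finite morphism to the spectrum of an AIC domain whose image contains the generic point has a section. -/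
theorem exists_section_of_finite {A : CommRingCat.{u}} [IsDomain A] (hA : Curves.IsAIC A) {X : Scheme.{u}}
    (f : X ⟶ Spec A) [IsFinite f] (x : X) (hx : (f x).asIdeal = ⊥) : ∃ s, s ≫ f = 𝟙 _ := by
  haveI : IsAffine X := isAffine_of_isAffineHom f
  obtain ⟨φ, hφ⟩ := Spec.map_surjective (X.isoSpec.inv ≫ f)
  have hfin : φ.hom.Finite := by
    rw [← IsFinite.SpecMap_iff, hφ]; infer_instance
  let Q : PrimeSpectrum Γ(X, ⊤) := X.isoSpec.hom x
  have hQ : Q.asIdeal.comap φ.hom = ⊥ := by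
    have h : Spec.map φ Q = f x := by
      rw [hφ, ← Scheme.Hom.comp_apply, Iso.hom_inv_id_assoc]
    exact (congrArg PrimeSpectrum.asIdeal h).trans hx
  letI : Algebra A Γ(X, ⊤) := φ.hom.toAlgebra
  haveI : Module.Finite A Γ(X, ⊤) := hfin
  haveI : IsDomain (Γ(X, ⊤) ⧸ Q.asIdeal) := Ideal.Quotient.isDomain _
  have hbij : Function.Bijective (algebraMap A (Γ(X, ⊤) ⧸ Q.asIdeal)) := by
    refine ⟨(injective_iff_map_eq_zero _).2 fun a ha => ?_, fun b => ?_⟩
    · exact Ideal.mem_bot.1 (hQ ▸ (Ideal.Quotient.eq_zero_iff_mem.1 ha : φ.hom a ∈ Q.asIdeal))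
    · exact SubtrLib.IsAIC.mem_range_of_isIntegral hA (Algebra.IsIntegral.isIntegral b)
  let e := AlgEquiv.ofBijective (Algebra.ofId A (Γ(X, ⊤) ⧸ Q.asIdeal)) hbij
  let σ : Γ(X, ⊤) →ₐ[A] A := e.symm.toAlgHom.comp (Ideal.Quotient.mkₐ A Q.asIdeal)
  refine ⟨Spec.map (CommRingCat.ofHom σ.toRingHom) ≫ X.isoSpec.inv, ?_⟩
  rw [Category.assoc, ← hφ, ← Spec.map_comp, ← Spec.map_id]
  congr 1
  ext a
  exact σ.commutes a

/-- A morphism from the spectrum of a local ring factors through an open subscheme containing the image of the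
closed point. -/
theorem exists_lift_of_open {A : CommRingCat.{u}} [IsLocalRing A] {X Y : Scheme.{u}} (w : Y ⟶ X)
    [IsOpenImmersion w] (g : Spec A ⟶ X) (y : Y) (hy : w y = g (IsLocalRing.closedPoint A)) :
    ∃ h, h ≫ w = g := by
  refine ⟨IsOpenImmersion.lift w g ?_, IsOpenImmersion.lift_fac _ _ _⟩
  rintro _ ⟨p, rfl⟩
  exact ((IsLocalRing.specializes_closedPoint p).map g.continuous).mem_open
    w.isOpenEmbedding.isOpen_range ⟨y, hy⟩

section converse

variable {A : CommRingCat.{u}} [Nontrivial A]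

theorem isLocalRing_of_local
    (h : ∀ (ι : Type) (U : ι → (Spec A).Opens), (∀ i, IsAffineOpen (U i)) → (∀ x, ∃ i, x ∈ U i) →
      ∃ i, U i = ⊤) : IsLocalRing A := by
  refine IsLocalRing.of_isUnit_or_isUnit_one_sub_self fun a => ?_
  obtain ⟨i, hi⟩ := h Bool (fun b => PrimeSpectrum.basicOpen (if b then a else 1 - a))
    (fun b => IsAffineOpen.Spec_basicOpen _) (fun x => by
      by_contra hc
      rw [not_exists] at hc
      have h1 : a ∈ x.asIdeal := not_not.1 (hc true)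
      have h2 : 1 - a ∈ x.asIdeal := not_not.1 (hc false)
      exact x.2.ne_top ((Ideal.eq_top_iff_one _).2 (by simpa using x.asIdeal.add_mem h1 h2)))
  have hu : IsUnit (if i then a else 1 - a) := by
    by_contra hn
    obtain ⟨m, hm, hle⟩ := exists_max_ideal_of_mem_nonunits (show (if i then a else 1 - a) ∈ nonunits A from hn)
    have : (⟨m, hm.isPrime⟩ : PrimeSpectrum A) ∈ PrimeSpectrum.basicOpen (if i then a else 1 - a) :=
      hi ▸ (show (⟨m, hm.isPrime⟩ : Spec A) ∈ (⊤ : (Spec A).Opens) from trivial)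
    exact this hle
  cases i
  · exact .inr hu
  · exact .inl hu

theorem isDomain_of_local
    (h : ∀ (ι : Type u) (Y : ι → Scheme.{u}) (w : ∀ i, Y i ⟶ Spec A), (∀ i, IsFinite (w i)) →
      (∀ x, ∃ i, x ∈ Set.range (w i)) → ∃ (i : ι) (s : Spec A ⟶ Y i), s ≫ w i = 𝟙 _) : IsDomain A := by
  obtain ⟨⟨p, hp⟩, s, hs⟩ := h (minimalPrimes A) (fun p => Spec (CommRingCat.of (A ⧸ p.1)))
    (fun p => Spec.map (CommRingCat.ofHom (Ideal.Quotient.mk p.1))) (fun p => by
      rw [IsFinite.SpecMap_iff]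
      exact RingHom.Finite.of_surjective _ Ideal.Quotient.mk_surjective)
    (fun x => by
      haveI := x.2
      obtain ⟨p, hp, hle⟩ := Ideal.exists_minimalPrimes_le (I := ⊥) (J := x.asIdeal) bot_le
      refine ⟨⟨p, hp⟩, ?_⟩
      have : (x : PrimeSpectrum A) ∈ Set.range (PrimeSpectrum.comap (Ideal.Quotient.mk p)) := by
        rw [range_comap_of_surjective _ _ Ideal.Quotient.mk_surjective, Ideal.mk_ker]
        exact hle
      exact this)
  obtain ⟨σ, rfl⟩ := Spec.map_surjective s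
  rw [← Spec.map_comp, ← Spec.map_id] at hs
  have hσ := Spec.map_injective hs
  have hbot : p = ⊥ := eq_bot_iff.2 fun a ha => by
    have := ConcreteCategory.congr_hom hσ a
    simp only [CommRingCat.comp_apply, CommRingCat.id_apply] at this
    rw [← this, show (CommRingCat.ofHom (Ideal.Quotient.mk p)) a = 0 from Ideal.Quotient.eq_zero_iff_mem.2 ha,
      map_zero]
    exact zero_mem _
  have hpp : p.IsPrime := Ideal.minimalPrimes_isPrime hp
  rw [hbot] at hpp
  exact IsDomain.of_bot_isPrime A (hbp := hpp)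

theorem isAIC_of_local
    (h : ∀ (Y : Scheme.{u}) (w : Y ⟶ Spec A), IsFinite w → Function.Surjective w →
      ∃ s : Spec A ⟶ Y, s ≫ w = 𝟙 _) : Curves.IsAIC A := by
  intro f hf hd
  haveI := hf.finite_adjoinRoot
  have hinj : Function.Injective (algebraMap A (AdjoinRoot f)) := by
    refine (injective_iff_map_eq_zero _).2 fun a ha => ?_
    by_contra ha0
    have h1 : f ∣ Polynomial.C a := AdjoinRoot.mk_eq_zero.1 ha
    have h2 : (Polynomial.C a).natDegree < f.natDegree := by rw [Polynomial.natDegree_C]; exact hd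
    exact hf.not_dvd_of_natDegree_lt (Polynomial.C_ne_zero.2 ha0) h2 h1
  let φ : A ⟶ CommRingCat.of (AdjoinRoot f) := CommRingCat.ofHom (algebraMap A (AdjoinRoot f))
  have hs : Function.Surjective (Spec.map φ) := fun x => by
    haveI := (show PrimeSpectrum A from x).2
    obtain ⟨Q, -, hQ1, hQ2⟩ := Ideal.exists_ideal_over_prime_of_isIntegral (S := AdjoinRoot f)
      (show PrimeSpectrum A from x).asIdeal (⊥ : Ideal (AdjoinRoot f)) (fun a ha => by
        rw [Ideal.mem_comap, Ideal.mem_bot] at ha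
        rw [hinj (ha.trans (map_zero _).symm)]
        exact zero_mem _)
    exact ⟨⟨Q, hQ1⟩, PrimeSpectrum.ext hQ2⟩
  obtain ⟨s, hs'⟩ := h _ (Spec.map φ) (by
    rw [IsFinite.SpecMap_iff]; exact RingHom.finite_algebraMap.2 inferInstance) hs
  obtain ⟨σ, rfl⟩ := Spec.map_surjective s
  rw [← Spec.map_comp, ← Spec.map_id] at hs'
  have hσ := Spec.map_injective hs'
  refine ⟨σ.hom (AdjoinRoot.root f), ?_⟩
  have hc : σ.hom.comp (algebraMap A (AdjoinRoot f)) = RingHom.id A := congrArg CommRingCat.Hom.hom hσ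
  have h0 := congrArg σ.hom (AdjoinRoot.eval₂_root f)
  rw [Polynomial.hom_eval₂, map_zero] at h0
  rw [← AdjoinRoot.algebraMap_eq, hc] at h0
  exact h0

end converse

theorem iff_local (P : Scheme.{u}) [QuasiSeparatedSpace P] :
    ((∀ (X : Scheme.{u}) (R : Presieve X), R ∈ Scheme.precoverage (@IsOpenImmersion ⊓ @QuasiCompact) X →
        ∀ g : P ⟶ X, ∃ (Y : Scheme.{u}) (w : Y ⟶ X) (h : P ⟶ Y), R w ∧ h ≫ w = g) ∧
      (∀ (X : Scheme.{u}) (R : Presieve X), R ∈ Scheme.precoverage @IsFinite X →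
        ∀ g : P ⟶ X, ∃ (Y : Scheme.{u}) (w : Y ⟶ X) (h : P ⟶ Y), R w ∧ h ≫ w = g)) ↔
      (IsAffine P ∧ IsLocalRing Γ(P, ⊤) ∧ IsDomain Γ(P, ⊤) ∧ Curves.IsAIC Γ(P, ⊤)) := by
  constructor
  · rintro ⟨hz, hf⟩
    have hne : Nonempty P := by
      by_contra hne
      rw [not_nonempty_iff] at hne
      obtain ⟨Y, w, h, hw, -⟩ := hz P ⊥ (Scheme.bot_mem_precoverage _ P) (𝟙 P)
      exact hw
    haveI : IsAffine P := by
      obtain ⟨Y, w, h, ⟨U⟩, hh⟩ := hz P (.ofArrows (fun U : P.affineOpens => U.1.toScheme) fun U => U.1.ι)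
        (by
          rw [Scheme.ofArrows_mem_precoverage_iff]
          refine ⟨fun x => ?_, fun U => ⟨inferInstance, ?_⟩⟩
          · obtain ⟨_, ⟨V, hV, rfl⟩, hxV, -⟩ := P.isBasis_affineOpens.exists_subset_of_mem_open
              (Set.mem_univ x) isOpen_univ
            exact ⟨⟨V, hV⟩, by rw [Scheme.Opens.range_ι]; exact hxV⟩
          · haveI : CompactSpace U.1.toScheme := isCompact_iff_compactSpace.1 U.2.isCompact
            exact AlgebraicGeometry.quasiCompact_of_compactSpace _) (𝟙 P)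
      haveI : IsSplitEpi U.1.ι := IsSplitEpi.mk' ⟨h, hh⟩
      haveI : IsIso U.1.ι := isIso_of_mono_of_isSplitEpi _
      haveI : IsAffine U.1.toScheme := U.2
      exact IsAffine.of_isIso (inv U.1.ι)
    let A := Γ(P, ⊤)
    have hz' : ∀ (ι : Type) (U : ι → (Spec A).Opens), (∀ i, IsAffineOpen (U i)) → (∀ x, ∃ i, x ∈ U i) →
        ∃ i, U i = ⊤ := by
      intro ι U hU hcov
      obtain ⟨Y, w, h, ⟨i⟩, hh⟩ := hz (Spec A) (.ofArrows (fun i => (U i).toScheme) fun i => (U i).ι) (by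
        rw [Scheme.ofArrows_mem_precoverage_iff]
        refine ⟨fun x => ?_, fun i => ⟨inferInstance, ?_⟩⟩
        · obtain ⟨i, hi⟩ := hcov x
          exact ⟨i, by rw [Scheme.Opens.range_ι]; exact hi⟩
        · haveI : CompactSpace (U i).toScheme := isCompact_iff_compactSpace.1 (hU i).isCompact
          exact AlgebraicGeometry.quasiCompact_of_compactSpace _) P.isoSpec.hom
      refine ⟨i, top_le_iff.1 fun x _ => ?_⟩
      have hx : x = (U i).ι (h (P.isoSpec.inv x)) := by
        rw [← Scheme.Hom.comp_apply, hh, ← Scheme.Hom.comp_apply, Iso.inv_hom_id]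
        rfl
      rw [hx]
      exact Subtype.prop _
    have hf' : ∀ (ι : Type u) (Y : ι → Scheme.{u}) (w : ∀ i, Y i ⟶ Spec A), (∀ i, IsFinite (w i)) →
        (∀ x, ∃ i, x ∈ Set.range (w i)) → ∃ (i : ι) (s : Spec A ⟶ Y i), s ≫ w i = 𝟙 _ := by
      intro ι Y w hw hcov
      obtain ⟨_, _, h, ⟨i⟩, hh⟩ := hf (Spec A) (.ofArrows Y w)
        ((Scheme.ofArrows_mem_precoverage_iff _).2 ⟨hcov, hw⟩) P.isoSpec.hom
      exact ⟨i, P.isoSpec.inv ≫ h, by rw [Category.assoc, hh, Iso.inv_hom_id]⟩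
    haveI : Nontrivial A := by
      obtain ⟨x⟩ := hne
      exact PrimeSpectrum.nonempty_iff_nontrivial.1 ⟨P.isoSpec.hom x⟩
    refine ⟨inferInstance, isLocalRing_of_local hz', isDomain_of_local hf', isAIC_of_local fun Y w hw hs => ?_⟩
    obtain ⟨-, s, hs'⟩ := hf' PUnit (fun _ => Y) (fun _ => w) (fun _ => hw) (fun x => ⟨⟨⟩, hs x⟩)
    exact ⟨s, hs'⟩
  · rintro ⟨_, _, _, hA⟩
    refine ⟨fun X R hR g => ?_, fun X R hR g => ?_⟩
    · obtain ⟨ι, Y, w, rfl⟩ := R.exists_eq_ofArrows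
      obtain ⟨hcov, hw⟩ := (Scheme.ofArrows_mem_precoverage_iff _).1 hR
      obtain ⟨i, y, hy⟩ := hcov ((P.isoSpec.inv ≫ g) (IsLocalRing.closedPoint Γ(P, ⊤)))
      haveI : IsOpenImmersion (w i) := (hw i).1
      obtain ⟨h, hh⟩ := exists_lift_of_open (w i) (P.isoSpec.inv ≫ g) y hy
      exact ⟨_, _, P.isoSpec.hom ≫ h, ⟨i⟩, by rw [Category.assoc, hh, Iso.hom_inv_id_assoc]⟩
    · obtain ⟨ι, Y, w, rfl⟩ := R.exists_eq_ofArrows
      obtain ⟨hcov, hw⟩ := (Scheme.ofArrows_mem_precoverage_iff _).1 hR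
      let η : PrimeSpectrum Γ(P, ⊤) := ⟨⊥, Ideal.isPrime_bot⟩
      let g' := P.isoSpec.inv ≫ g
      obtain ⟨i, y, hy⟩ := hcov (g' η)
      haveI : IsFinite (w i) := hw i
      obtain ⟨z, -, hz⟩ := Scheme.Pullback.exists_preimage_pullback (f := w i) (g := g') y η hy
      obtain ⟨s, hs⟩ := exists_section_of_finite hA (pullback.snd (w i) g') z (by rw [hz])
      refine ⟨_, _, P.isoSpec.hom ≫ s ≫ pullback.fst (w i) g', ⟨i⟩, ?_⟩
      rw [Category.assoc, Category.assoc, pullback.condition, reassoc_of% hs]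
      exact Iso.hom_inv_id_assoc _ _

end Groth.Agent.AicLocal
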